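import Mathlib.Algebra.Homology.HomotopyCategory.MappingCocone
import Mathlib

/-!
Images of mapping cocones under additive functors; contractions.
-/

set_option autoImplicit false
set_option linter.style.haveILetI false
set_option backward.isDefEq.respectTransparency false
set_option backward.isDefEq.respectTransparency.types false

universe v v' u u'

open CategoryTheory CategoryTheory.Limits CochainComplex HomComplex

namespace Groth.Agent.TopGodement

variable {A : Type u} [Category.{v} A] [Abelian A] {B : Type u'} [Category.{v'} B] [Abelian B]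

theorem δ_inl {K L : CochainComplex A ℤ} (φ : K ⟶ L) :
    δ 0 1 (mappingCocone.inl φ) = -(Cochain.ofHom φ).comp (mappingCocone.inr φ).1 (zero_add 1) := by
  have h : mappingCocone.inl φ = mappingCocone.liftCochain φ (Cochain.ofHom (𝟙 K)) 0 (by omega : (-1 : ℤ) + 1 = 0) := by
    ext p
    rw [← cancel_mono (𝟙 ((mappingCocone φ).X p)), ← mappingCocone.id_X φ p (p - 1) (by omega)]
    simp
  rw [h, mappingCocone.δ_liftCochain φ _ _ _ 1 (by omega)]
  simp

theorem δ_snd' {K L : CochainComplex A ℤ} (φ : K ⟶ L) :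
    δ (-1) 0 (mappingCocone.snd φ) = -Cochain.ofHom (mappingCocone.fst φ ≫ φ) := by
  have h1 : Cochain.ofHom (𝟙 (mappingCocone φ)) =
      mappingCocone.liftCochain φ (Cochain.ofHom (mappingCocone.fst φ)) (mappingCocone.snd φ)
        (by omega) := by
    ext p
    rw [Cochain.ofHom_v, HomologicalComplex.id_f, ← cancel_mono (𝟙 ((mappingCocone φ).X p)),
      ← mappingCocone.id_X φ p (p - 1) (by omega)]
    simp
  have h2 := congrArg (δ 0 1) h1
  rw [δ_ofHom, mappingCocone.δ_liftCochain φ _ _ _ 1 (by omega), δ_ofHom, Cochain.zero_comp,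
    zero_sub, eq_comm, neg_eq_zero, ← Cochain.ofHom_comp] at h2
  refine eq_neg_of_add_eq_zero_left ?_
  ext p
  have h3 := Cochain.congr_v h2 p (p + 1) rfl
  rw [Cochain.comp_v _ _ _ p p (p + 1) (add_zero p) rfl, Cochain.zero_v] at h3
  rw [Cochain.zero_v, ← cancel_mono (𝟙 (L.X p)),
    ← mappingCocone.inr_v_snd_v φ p (p + 1) rfl, reassoc_of% h3, zero_comp, zero_comp]

variable (Φ : A ⥤ B) [Φ.Additive]

/-- image of a complex -/
abbrev im (K : CochainComplex A ℤ) : CochainComplex B ℤ := (Φ.mapHomologicalComplex (ComplexShape.up ℤ)).obj K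

/-- image of a morphism -/
abbrev imMap {K L : CochainComplex A ℤ} (φ : K ⟶ L) : im Φ K ⟶ im Φ L :=
  (Φ.mapHomologicalComplex (ComplexShape.up ℤ)).map φ

variable {K L : CochainComplex A ℤ} (φ : K ⟶ L)

/-- projection to the source -/
noncomputable abbrev cfst : im Φ (mappingCocone φ) ⟶ im Φ K := imMap Φ (mappingCocone.fst φ)

/-- projection to the target -/
noncomputable abbrev csnd : Cochain (im Φ (mappingCocone φ)) (im Φ L) (-1) := (mappingCocone.snd φ).map Φ

/-- inclusion of the source -/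
noncomputable abbrev cinl : Cochain (im Φ K) (im Φ (mappingCocone φ)) 0 := (mappingCocone.inl φ).map Φ

/-- inclusion of the target -/
noncomputable abbrev cinr : Cochain (im Φ L) (im Φ (mappingCocone φ)) 1 := (mappingCocone.inr φ).1.map Φ

theorem δ_cinl : δ 0 1 (cinl Φ φ) = -(Cochain.ofHom (imMap Φ φ)).comp (cinr Φ φ) (zero_add 1) := by
  simp [δ_inl]

theorem δ_csnd : δ (-1) 0 (csnd Φ φ) = -Cochain.ofHom (cfst Φ φ ≫ imMap Φ φ) := by
  simp [δ_snd']

theorem δ_cinr : δ 1 2 (cinr Φ φ) = 0 := by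
  simp

@[reassoc]
theorem cinl_fst (p : ℤ) : (cinl Φ φ).v p p (add_zero p) ≫ (cfst Φ φ).f p = 𝟙 _ := by
  simp [← Functor.map_comp]
  rfl

@[reassoc]
theorem cinl_snd (p q : ℤ) (h : p + -1 = q) : (cinl Φ φ).v p p (add_zero p) ≫ (csnd Φ φ).v p q h = 0 := by
  simp [← Functor.map_comp]

@[reassoc]
theorem cinr_fst (p q : ℤ) (h : p + 1 = q) : (cinr Φ φ).v p q h ≫ (cfst Φ φ).f q = 0 := by
  simp [← Functor.map_comp]

@[reassoc]
theorem cinr_snd (p q : ℤ) (h : p + 1 = q) :
    (cinr Φ φ).v p q h ≫ (csnd Φ φ).v q p (by omega) = 𝟙 _ := by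
  simp [← Functor.map_comp]
  rfl

theorem c_id (p q : ℤ) (h : p + -1 = q) : (cfst Φ φ).f p ≫ (cinl Φ φ).v p p (add_zero p) +
    (csnd Φ φ).v p q h ≫ (cinr Φ φ).v q p (by omega) = 𝟙 _ := by
  change Φ.map _ ≫ Φ.map _ + Φ.map _ ≫ Φ.map _ = _
  rw [← Φ.map_comp, ← Φ.map_comp, ← Φ.map_add, mappingCocone.id_X φ p q h]
  exact Φ.map_id _

/-- contracted in degree `n` -/
def ContrAt (C : CochainComplex B ℤ) (n : ℤ) : Prop :=
  ∃ E : Cochain C C (-1), (δ (-1) 0 E).v n n (add_zero n) = 𝟙 (C.X n)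

/-- local contractions glue -/
theorem exists_contraction (C : CochainComplex B ℤ) (h : ∀ n, ContrAt C n) :
    ∃ E : Cochain C C (-1), δ (-1) 0 E = Cochain.ofHom (𝟙 C) := by
  choose e he using h
  let b : ∀ (p q : ℤ), p + -1 = q → (C.X p ⟶ C.X q) := fun p q hpq => (e p).v p q hpq
  have hb : ∀ (q p r : ℤ) (hq : p + -1 = q) (hr : r + -1 = p),
      b p q hq ≫ C.d q p + C.d p r ≫ (e p).v r p hr = 𝟙 _ := fun q p r hq hr => by
    obtain rfl : q = p - 1 := by omega
    obtain rfl : r = p + 1 := by omega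
    have := he p
    rw [δ_v (-1) 0 rfl _ p p (add_zero p) (p - 1) (p + 1) rfl rfl] at this
    simpa [b] using this
  have hd : ∀ (q p : ℤ) (hq : p + -1 = q), C.d q p ≫ b p q hq ≫ C.d q p = C.d q p := fun q p hq => by
    have := congrArg (C.d q p ≫ ·) (hb q p (p + 1) hq (by omega))
    simpa using this
  have hk : ∀ (q p r : ℤ) (hq : p + -1 = q) (_ : r + -1 = p) {W : B} (x : W ⟶ C.X p), x ≫ C.d p r = 0 →
      x ≫ b p q hq ≫ C.d q p = x := fun q p r hq hr W x hx => by
    have := congrArg (x ≫ ·) (hb q p r hq hr)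
    simpa [reassoc_of% hx] using this
  let P : ∀ p : ℤ, C.X p ⟶ C.X p := fun p => b p (p - 1) (by omega) ≫ C.d (p - 1) p
  have hP : ∀ (p q : ℤ) (hq : p + -1 = q), P p = b p q hq ≫ C.d q p := fun p q hq => by
    obtain rfl : q = p - 1 := by omega
    rfl
  refine ⟨Cochain.mk fun p q hpq => P p ≫ b p q hpq ≫ (𝟙 _ - P q), ?_⟩
  ext p
  rw [δ_v (-1) 0 rfl _ p p (add_zero p) (p - 1) (p + 1) rfl rfl, Cochain.ofHom_v, HomologicalComplex.id_f]
  simp only [Cochain.mk_v, Int.negOnePow_zero, one_smul, Category.assoc]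
  have h1 : P p ≫ b p (p - 1) (by omega) ≫ (𝟙 _ - P (p - 1)) ≫ C.d (p - 1) p = P p := by
    have h0 : P (p - 1) ≫ C.d (p - 1) p = 0 := by simp [P]
    rw [Preadditive.sub_comp, Category.id_comp, h0, sub_zero]
    change P p ≫ P p = P p
    simp only [P, Category.assoc, hd]
  have h2 : C.d p (p + 1) ≫ P (p + 1) = C.d p (p + 1) := by
    rw [hP (p + 1) p (by omega), hd]
  let x : C.X p ⟶ C.X p := 𝟙 _ - C.d p (p + 1) ≫ b (p + 1) p (by omega)
  have hx : x ≫ C.d p (p + 1) = 0 := by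
    simp [x, Preadditive.sub_comp, hd]
  have h3 : x ≫ P p = x := hk (p - 1) p (p + 1) (by omega) (by omega) x hx
  rw [h1, reassoc_of% h2, Preadditive.comp_sub, Preadditive.comp_sub, Category.comp_id]
  have h4 : C.d p (p + 1) ≫ b (p + 1) p (by omega) = 𝟙 _ - x := by simp [x]
  rw [h4, ← Category.assoc, h4, Preadditive.sub_comp, h3, Category.id_comp]
  abel

/-- local contraction of a mapping cocone from a retraction -/
theorem contrAt_of_retraction (r : im Φ L ⟶ im Φ K) (H : Cochain (im Φ L) (im Φ L) (-1))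
    (hH : (Cochain.ofHom (imMap Φ φ)).comp H (zero_add (-1)) = 0) (n : ℤ)
    (hr : (imMap Φ φ).f n ≫ r.f n = 𝟙 _)
    (hd : (δ (-1) 0 H).v (n - 1) (n - 1) (add_zero _) = 𝟙 _ - r.f (n - 1) ≫ (imMap Φ φ).f (n - 1)) :
    ContrAt (im Φ (mappingCocone φ)) n := by
  let E₁ := ((csnd Φ φ).comp (Cochain.ofHom r) (add_zero (-1))).comp (cinl Φ φ) (add_zero (-1))
  let E₂ := ((csnd Φ φ).comp H (by omega : (-1 : ℤ) + -1 = -2)).comp (cinr Φ φ) (by omega : (-2 : ℤ) + 1 = -1)
  refine ⟨-(E₁ + E₂), ?_⟩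
  rw [δ_neg, δ_add]
  simp only [E₁, E₂]
  rw [δ_comp_zero_cochain _ _ 0 (by omega), δ_comp _ _ (show (-2 : ℤ) + 1 = -1 by omega) (-1) 2 0 (by omega) (by omega) (by omega), δ_cinr,
    δ_comp_zero_cochain _ _ 0 (by omega), δ_comp _ _ (show (-1 : ℤ) + -1 = -2 by omega) 0 0 (-1) (by omega) (by omega) (by omega), δ_csnd, δ_cinl,
    δ_ofHom]
  have hH' := Cochain.congr_v hH n (n - 1) (by omega)
  simp only [Cochain.zero_cochain_comp_v, Cochain.ofHom_v, Cochain.zero_v] at hH'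
  simp only [Cochain.comp_zero, zero_add, Cochain.comp_assoc_of_second_is_zero_cochain, Int.negOnePow_one,
    Int.negOnePow_neg, Units.neg_smul, one_smul, Cochain.neg_v, Cochain.add_v, Cochain.neg_comp, Cochain.comp_neg,
    Cochain.comp_v _ _ (show (-1 : ℤ) + 1 = 0 by omega) n (n - 1) n (by omega) (by omega),
    Cochain.comp_v _ _ (show (-1 : ℤ) + 0 = -1 by omega) n (n - 1) (n - 1) (by omega) (by omega),
    Cochain.comp_v _ _ (show (0 : ℤ) + -1 = -1 by omega) n n (n - 1) (by omega) (by omega),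
    Cochain.comp_zero_cochain_v, Cochain.zero_cochain_comp_v, Cochain.ofHom_v, HomologicalComplex.comp_f,
    Category.assoc]
  rw [hd, reassoc_of% hr]
  simp only [Preadditive.sub_comp, Preadditive.comp_sub, Preadditive.add_comp, Preadditive.comp_add,
    Category.id_comp, Category.assoc, Preadditive.neg_comp, Preadditive.comp_neg, reassoc_of% hH', zero_comp,
    comp_zero, neg_zero, add_zero]
  rw [← c_id Φ φ n (n - 1) (by omega)]
  abel

/-- transfer of local contractions along maps which are isomorphisms near `n` -/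
theorem contrAt_of_iso {C C' : CochainComplex B ℤ} (m : C ⟶ C') (n : ℤ) (h₀ : IsIso (m.f (n - 1)))
    (h₁ : IsIso (m.f n)) (h₂ : IsIso (m.f (n + 1))) (h : ContrAt C' n) : ContrAt C n := by
  classical
  obtain ⟨E, hE⟩ := h
  refine ⟨Cochain.mk fun p q hpq => if h : IsIso (m.f q) then m.f p ≫ E.v p q hpq ≫ @inv _ _ _ _ (m.f q) h else 0, ?_⟩
  rw [δ_v (-1) 0 rfl _ n n (add_zero n) (n - 1) (n + 1) rfl rfl] at hE ⊢
  simp only [Cochain.mk_v, dif_pos h₀, dif_pos h₁, Int.negOnePow_zero, one_smul, Category.assoc] at hE ⊢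
  have e1 : inv (m.f (n - 1)) ≫ C.d (n - 1) n = C'.d (n - 1) n ≫ inv (m.f n) := by
    rw [IsIso.inv_comp_eq, ← Category.assoc, IsIso.eq_comp_inv]
    exact (m.comm (n - 1) n).symm
  rw [e1, ← reassoc_of% (m.comm n (n + 1)), ← Preadditive.comp_add, ← Category.assoc (E.v n (n - 1) _),
    ← Category.assoc (C'.d n (n + 1)), ← Preadditive.add_comp, hE, Category.id_comp, IsIso.hom_inv_id]

/-- a contraction of the cocone gives a homotopy equivalence -/
theorem exists_homotopyEquiv (E : Cochain (im Φ (mappingCocone φ)) (im Φ (mappingCocone φ)) (-1))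
    (hE : δ (-1) 0 E = Cochain.ofHom (𝟙 _)) :
    ∃ e : HomotopyEquiv (im Φ K) (im Φ L), e.hom = imMap Φ φ := by
  let C := im Φ (mappingCocone φ)
  let Ef := E.comp (Cochain.ofHom (cfst Φ φ)) (add_zero (-1))
  let Es := E.comp (csnd Φ φ) (by omega : (-1 : ℤ) + -1 = -2)
  let g₀ : Cochain (im Φ L) (im Φ K) 0 := -(cinr Φ φ).comp Ef (by omega : (1 : ℤ) + -1 = 0)
  have hEf : δ (-1) 0 Ef = Cochain.ofHom (cfst Φ φ) := by
    rw [δ_comp_ofHom, hE]
    simp
  have hEs : δ (-2) (-1) Es = -(E.comp (Cochain.ofHom (cfst Φ φ ≫ imMap Φ φ)) (add_zero _)) - csnd Φ φ := by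
    rw [δ_comp _ _ _ 0 0 (-1) (by omega) (by omega) (by omega), hE, δ_csnd]
    simp [sub_eq_add_neg]
  have hfst : (cinr Φ φ).comp (Cochain.ofHom (cfst Φ φ)) (add_zero 1) = 0 := by
    ext p q hpq
    simp [← Functor.map_comp]
  let gC : Cocycle (im Φ L) (im Φ K) 0 := Cocycle.mk g₀ 1 rfl (by
    simp only [g₀]
    rw [δ_neg, δ_comp _ _ _ 2 0 1 (by omega) (by omega) (by omega), δ_cinr, hEf, hfst]
    simp)
  let g := Cocycle.homOf gC
  have hg : Cochain.ofHom g = g₀ := (Cocycle.cochain_ofHom_homOf_eq_coe gC).trans rfl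
  let HA := (cinl Φ φ).comp Ef (zero_add (-1))
  let HB := (cinr Φ φ).comp Es (by omega : (1 : ℤ) + -2 = -1)
  have hA : δ (-1) 0 HA = Cochain.ofHom (𝟙 _) - Cochain.ofHom (imMap Φ φ ≫ g) := by
    simp only [HA]
    rw [δ_zero_cochain_comp _ _ 0 (by omega), δ_cinl, hEf, Cochain.ofHom_comp, hg]
    ext p
    simp [g₀, Cochain.comp_v _ _ (show (1 : ℤ) + -1 = 0 by omega) p (p + 1) p (by omega) (by omega),
      ← Functor.map_comp]
    rfl
  have hB : δ (-1) 0 HB = Cochain.ofHom (g ≫ imMap Φ φ) - Cochain.ofHom (𝟙 _) := by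
    simp only [HB]
    rw [δ_comp _ _ _ 2 (-1) 0 (by omega) (by omega) (by omega), δ_cinr, hEs, Cochain.ofHom_comp g, hg]
    ext p
    simp [g₀, Ef, Cochain.comp_v _ _ (show (1 : ℤ) + -1 = 0 by omega) p (p + 1) p (by omega) (by omega),
      Preadditive.comp_sub, ← Functor.map_comp, sub_eq_add_neg]
    rfl
  refine ⟨{ hom := imMap Φ φ, inv := g, homotopyHomInvId := ?_, homotopyInvHomId := ?_ }, rfl⟩
  · exact (Homotopy.symm ((Cochain.equivHomotopy _ _).symm ⟨HA, by rw [hA]; abel⟩))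
  · exact (Cochain.equivHomotopy _ _).symm ⟨HB, by rw [hB]; abel⟩

end Groth.Agent.TopGodement
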