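import Groth.Agent.TopGodement.Functor
import Groth.Agent.TopGodement.Homotopy
import Mathlib.Algebra.Homology.HomotopyCategory.MappingCocone
import Mathlib.CategoryTheory.Limits.Constructions.EventuallyConstant
import Mathlib.Algebra.Homology.DerivedCategory.Basic

/-!
Godement resolutions of bounded below complexes.
-/

set_option autoImplicit false
set_option linter.style.haveILetI false
set_option linter.unusedSectionVars false
set_option backward.isDefEq.respectTransparency false
set_option backward.isDefEq.respectTransparency.types false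
set_option maxHeartbeats 1000000

universe u

open CategoryTheory CategoryTheory.Limits Opposite TopologicalSpace CochainComplex HomComplex ZeroObject

attribute [local instance] HasDerivedCategory.standard

noncomputable section

namespace Groth.Agent.TopGodement

variable {X : TopCat.{u}}

/-- flasque sheaves are closed under mapping cocones -/
lemma isFlasque_of_decomp {M A B : CohTop.Ab X} (pA : M ⟶ A) (iA : A ⟶ M) (pB : M ⟶ B) (iB : B ⟶ M)
    (hA : iA ≫ pA = 𝟙 A) (hB : iB ≫ pB = 𝟙 B) (htot : pA ≫ iA + pB ≫ iB = 𝟙 M)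
    (fA : TopCat.Sheaf.IsFlasque A) (fB : TopCat.Sheaf.IsFlasque B) : TopCat.Sheaf.IsFlasque M where
  epi {U V} h := by
    rw [AddCommGrpCat.epi_iff_surjective]
    intro s
    obtain ⟨a, ha⟩ := (AddCommGrpCat.epi_iff_surjective _).1 (fA.epi h) (pA.hom.app V s)
    obtain ⟨b, hb⟩ := (AddCommGrpCat.epi_iff_surjective _).1 (fB.epi h) (pB.hom.app V s)
    refine ⟨iA.hom.app U a + iB.hom.app U b, ?_⟩
    rw [map_add, ← ConcreteCategory.comp_apply, ← iA.hom.naturality, ConcreteCategory.comp_apply, ha,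
      ← ConcreteCategory.comp_apply (iB.hom.app U), ← iB.hom.naturality, ConcreteCategory.comp_apply, hb]
    exact ConcreteCategory.congr_hom (congrArg (fun t : M ⟶ M => t.hom.app V) htot) s

lemma isFlasque_zero' {M : CohTop.Ab X} (h : IsZero M) : TopCat.Sheaf.IsFlasque M where
  epi {U V} _ := by
    have hV : IsZero (M.obj.obj V) :=
      ((evaluation _ _).obj V).map_isZero ((sheafToPresheaf _ _).map_isZero h)
    exact hV.epi _

section CMap

variable {A : Type*} [Category A] [Abelian A] {K L L' : CochainComplex A ℤ} (φ : K ⟶ L) (φ' : K ⟶ L') (p : L ⟶ L')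
  (h : φ ≫ p = φ')

include h in
/-- maps of mapping cocones -/
def cmap : mappingCocone φ ⟶ mappingCocone φ' :=
  mappingCocone.lift φ' (mappingCocone.fst φ)
    ((mappingCocone.snd φ).comp (Cochain.ofHom p) (add_zero (-1))) (by
      rw [δ_comp_ofHom, δ_snd', Cochain.neg_comp, ← Cochain.ofHom_comp, Category.assoc, h]
      exact neg_add_cancel _)

@[reassoc]
lemma cmap_fst (n : ℤ) : (cmap φ φ' p h).f n ≫ (mappingCocone.fst φ').f n = (mappingCocone.fst φ).f n := by
  simp [cmap]

@[reassoc]
lemma cmap_snd (n q : ℤ) (hq : n + -1 = q) :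
    (cmap φ φ' p h).f n ≫ (mappingCocone.snd φ').v n q hq = (mappingCocone.snd φ).v n q hq ≫ p.f q := by
  simp [cmap]

lemma isIso_cmap (n : ℤ) [IsIso (p.f (n - 1))] : IsIso ((cmap φ φ' p h).f n) := by
  refine ⟨(mappingCocone.fst φ').f n ≫ (mappingCocone.inl φ).v n n (add_zero n) +
    (mappingCocone.snd φ').v n (n - 1) (by omega) ≫ inv (p.f (n - 1)) ≫
      (mappingCocone.inr φ).1.v (n - 1) n (by omega), ?_, ?_⟩
  · simp only [Preadditive.comp_add, cmap_fst_assoc, cmap_snd_assoc, Category.assoc, IsIso.hom_inv_id_assoc]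
    exact mappingCocone.id_X φ n (n - 1) (by omega)
  · rw [← cancel_mono (𝟙 ((mappingCocone φ').X n))]
    conv_lhs => rw [← mappingCocone.id_X φ' n (n - 1) (by omega)]
    simp only [Preadditive.comp_add, Category.assoc, cmap_fst_assoc, Preadditive.add_comp, cmap_snd_assoc,
      mappingCocone.inl_v_fst_f_assoc, mappingCocone.inr_v_fst_f_assoc, mappingCocone.inl_v_snd_v_assoc,
      mappingCocone.inr_v_snd_v_assoc, IsIso.inv_hom_id_assoc, zero_comp, comp_zero, add_zero, zero_add,
      Category.id_comp, Category.comp_id]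
    exact mappingCocone.id_X φ' n (n - 1) (by omega)

end CMap

lemma isFlasque_of_iso {M N : CohTop.Ab X} (e : M ≅ N) (h : TopCat.Sheaf.IsFlasque M) :
    TopCat.Sheaf.IsFlasque N where
  epi {U V} i := by
    haveI := h.epi i
    have hh : N.obj.map i = e.inv.hom.app U ≫ M.obj.map i ≫ e.hom.hom.app V := by
      rw [e.hom.hom.naturality, ← Category.assoc, ← NatTrans.comp_app,
        show e.inv.hom ≫ e.hom.hom = 𝟙 _ from congrArg (fun t : N ⟶ N => t.hom) e.inv_hom_id]
      exact (Category.id_comp _).symm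
    haveI : IsIso (e.inv.hom.app U) :=
      inferInstanceAs (IsIso (((sheafToPresheaf _ _ ⋙ (evaluation _ _).obj U)).map e.inv))
    haveI : IsIso (e.hom.hom.app V) :=
      inferInstanceAs (IsIso (((sheafToPresheaf _ _ ⋙ (evaluation _ _).obj V)).map e.hom))
    rw [hh]
    infer_instance

/-- the functor on complexes -/
abbrev Gc : CochainComplex (CohTop.Ab X) ℤ ⥤ CochainComplex (CohTop.Ab X) ℤ :=
  (Gd (X := X)).mapHomologicalComplex (ComplexShape.up ℤ)

/-- the unit on complexes -/
def ηc (F : CochainComplex (CohTop.Ab X) ℤ) : F ⟶ Gc.obj F where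
  f n := η.app (F.X n)
  comm' i j _ := (η.naturality (F.d i j)).symm

/-- the quotient -/
abbrev Qc (F : CochainComplex (CohTop.Ab X) ℤ) : CochainComplex (CohTop.Ab X) ℤ := cokernel (ηc F)

/-- the projection -/
abbrev πc (F : CochainComplex (CohTop.Ab X) ℤ) : Gc.obj F ⟶ Qc F := cokernel.π (ηc F)

/-- cocone map -/
def stepι {F : CochainComplex (CohTop.Ab X) ℤ} {U : CochainComplex (CohTop.Ab X) ℤ} (g : Qc F ⟶ U) :
    F ⟶ mappingCocone (πc F ≫ g) :=
  mappingCocone.lift _ (ηc F) 0 (by simp [πc])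

/-- the finite stages -/
def stage : ℕ → ∀ F : CochainComplex (CohTop.Ab X) ℤ, Σ U : CochainComplex (CohTop.Ab X) ℤ, F ⟶ U
  | 0, _ => ⟨0, 0⟩
  | k + 1, F => ⟨mappingCocone (πc F ≫ (stage k (Qc F)).2), stepι (stage k (Qc F)).2⟩

lemma stepι_cmap {F U U' : CochainComplex (CohTop.Ab X) ℤ} (g : Qc F ⟶ U) (g' : Qc F ⟶ U') (p : U ⟶ U')
    (h : g ≫ p = g') (h' : (πc F ≫ g) ≫ p = πc F ≫ g') :
    stepι g ≫ cmap (πc F ≫ g) (πc F ≫ g') p h' = stepι g' := by
  refine HomologicalComplex.hom_ext _ _ fun n => ?_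
  rw [HomologicalComplex.comp_f, ← cancel_mono (𝟙 ((mappingCocone (πc F ≫ g')).X n)),
    ← mappingCocone.id_X _ n (n - 1) (by omega)]
  simp [stepι, cmap]

/-- transition maps -/
def trans : ∀ (k : ℕ) (F : CochainComplex (CohTop.Ab X) ℤ),
    { p : (stage (k + 1) F).1 ⟶ (stage k F).1 // (stage (k + 1) F).2 ≫ p = (stage k F).2 }
  | 0, F => ⟨0, comp_zero⟩
  | k + 1, F => ⟨cmap (πc F ≫ (stage (k + 1) (Qc F)).2) (πc F ≫ (stage k (Qc F)).2) (trans k (Qc F)).1
      ((Category.assoc _ _ _).trans (congrArg (πc F ≫ ·) (trans k (Qc F)).2)),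
      stepι_cmap _ _ _ (trans k (Qc F)).2 _⟩

lemma isZero_Qc_X {F : CochainComplex (CohTop.Ab X) ℤ} (n : ℤ) (h : IsZero (F.X n)) : IsZero ((Qc F).X n) := by
  haveI : Epi ((πc F).f n) :=
    inferInstanceAs (Epi ((HomologicalComplex.eval _ (ComplexShape.up ℤ) n).map (πc F)))
  exact IsZero.of_epi ((πc F).f n) (Gd.map_isZero h)

theorem isZero_stage : ∀ (k : ℕ) (F : CochainComplex (CohTop.Ab X) ℤ) (a n : ℤ), (∀ i, i < a → IsZero (F.X i)) →
    n < a → IsZero ((stage k F).1.X n)
  | 0, F, a, n, _, _ => (HomologicalComplex.eval _ (ComplexShape.up ℤ) n).map_isZero (isZero_zero _)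
  | k + 1, F, a, n, hF, hn => by
    change IsZero ((mappingCocone (πc F ≫ (stage k (Qc F)).2)).X n)
    rw [IsZero.iff_id_eq_zero, ← mappingCocone.id_X _ n (n - 1) (by omega)]
    have h1 : IsZero ((Gc.obj F).X n) := Gd.map_isZero (hF n hn)
    have h2 : IsZero ((stage k (Qc F)).1.X (n - 1)) :=
      isZero_stage k (Qc F) a (n - 1) (fun i hi => isZero_Qc_X i (hF i hi)) (by omega)
    rw [h1.eq_of_tgt ((mappingCocone.fst _).f n) 0, h2.eq_of_tgt ((mappingCocone.snd _).v n (n - 1) _) 0]
    simp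

theorem isFlasque_stage : ∀ (k : ℕ) (F : CochainComplex (CohTop.Ab X) ℤ) (n : ℤ),
    TopCat.Sheaf.IsFlasque ((stage k F).1.X n)
  | 0, F, n => isFlasque_zero' ((HomologicalComplex.eval _ (ComplexShape.up ℤ) n).map_isZero (isZero_zero _))
  | k + 1, F, n =>
    isFlasque_of_decomp (A := (Gc.obj F).X n) (B := (stage k (Qc F)).1.X (n - 1))
      ((mappingCocone.fst (πc F ≫ (stage k (Qc F)).2)).f n) ((mappingCocone.inl _).v n n (add_zero n))
      ((mappingCocone.snd _).v n (n - 1) (by omega)) ((mappingCocone.inr _).1.v (n - 1) n (by omega))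
      (mappingCocone.inl_v_fst_f _ n) (mappingCocone.inr_v_snd_v _ (n - 1) n (by omega))
      (mappingCocone.id_X _ n (n - 1) (by omega)) (isFlasque_Gd _) (isFlasque_stage k (Qc F) (n - 1))

theorem isIso_trans : ∀ (k : ℕ) (F : CochainComplex (CohTop.Ab X) ℤ) (a n : ℤ), (∀ i, i < a → IsZero (F.X i)) →
    n < a + k → IsIso ((trans k F).1.f n)
  | 0, F, a, n, hF, hn => ⟨0, (isZero_stage 1 F a n hF (by simpa using hn)).eq_of_src _ _,
      ((HomologicalComplex.eval _ (ComplexShape.up ℤ) n).map_isZero (isZero_zero _)).eq_of_src _ _⟩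
  | k + 1, F, a, n, hF, hn => by
    haveI := isIso_trans k (Qc F) a (n - 1) (fun i hi => isZero_Qc_X i (hF i hi)) (by push_cast at hn; omega)
    change IsIso ((cmap (πc F ≫ (stage (k + 1) (Qc F)).2) (πc F ≫ (stage k (Qc F)).2) (trans k (Qc F)).1
      ((Category.assoc _ _ _).trans (congrArg (πc F ≫ ·) (trans k (Qc F)).2))).f n)
    exact isIso_cmap _ _ _ _ n

/-! ### stalks -/

variable (x : X)

/-- retractions and homotopies in degrees below a bound -/
def GoodStalk {F U : CochainComplex (CohTop.Ab X) ℤ} (ι : F ⟶ U) (N : ℤ) : Prop :=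
  ∃ (r : im (St x) U ⟶ im (St x) F) (H : Cochain (im (St x) U) (im (St x) U) (-1)),
    (Cochain.ofHom (imMap (St x) ι)).comp H (zero_add (-1)) = 0 ∧
    (∀ n, n < N → (imMap (St x) ι).f n ≫ r.f n = 𝟙 _) ∧
    ∀ n, n < N - 1 → (δ (-1) 0 H).v n n (add_zero n) = 𝟙 _ - r.f n ≫ (imMap (St x) ι).f n

/-- retraction on stalks -/
def retc (F : CochainComplex (CohTop.Ab X) ℤ) : im (St x) (Gc.obj F) ⟶ im (St x) F where
  f n := (ret x).app (F.X n)
  comm' i j _ := ((ret x).naturality (F.d i j)).symm

lemma η_retc (F : CochainComplex (CohTop.Ab X) ℤ) : imMap (St x) (ηc F) ≫ retc x F = 𝟙 _ := by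
  ext n : 1
  exact η_ret x (F.X n)

lemma exists_sectionQ (F : CochainComplex (CohTop.Ab X) ℤ) : ∃ s : im (St x) (Qc F) ⟶ im (St x) (Gc.obj F),
    imMap (St x) (πc F) ≫ s = 𝟙 _ - retc x F ≫ imMap (St x) (ηc F) ∧ s ≫ imMap (St x) (πc F) = 𝟙 _ := by
  let S : ShortComplex (CochainComplex (CohTop.Ab X) ℤ) := ShortComplex.mk (ηc F) (πc F) (cokernel.condition _)
  haveI : ∀ n, Epi ((St x).map ((πc F).f n)) := fun n => by
    haveI : Epi ((πc F).f n) :=
      inferInstanceAs (Epi ((HomologicalComplex.eval _ (ComplexShape.up ℤ) n).map (πc F)))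
    exact (St x).map_epi _
  haveI he : Epi (imMap (St x) (πc F)) := HomologicalComplex.epi_of_epi_f _ fun n => by
    exact inferInstanceAs (Epi ((St x).map ((πc F).f n)))
  have hex : (ShortComplex.mk (imMap (St x) (ηc F)) (imMap (St x) (πc F))
      (by rw [← Functor.map_comp, cokernel.condition, Functor.map_zero])).Exact := by
    refine (HomologicalComplex.exact_iff_degreewise_exact _).2 fun n => ?_
    exact (((ShortComplex.exact_cokernel (ηc F)).map
      (HomologicalComplex.eval (CohTop.Ab X) (ComplexShape.up ℤ) n)).map (St x))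
  let σ := ShortComplex.Splitting.ofExactOfRetraction _ hex (retc x F) (η_retc x F) he
  exact ⟨σ.s, (sub_eq_of_eq_add' σ.id.symm).symm, σ.s_g⟩

theorem goodStalk_step {F U : CochainComplex (CohTop.Ab X) ℤ} (ι' : Qc F ⟶ U) (N : ℤ)
    (h : GoodStalk x ι' N) : GoodStalk x (stepι ι') (N + 1) := by
  obtain ⟨r, H, hH, hr, hd⟩ := h
  obtain ⟨s, hs, hs'⟩ := exists_sectionQ x F
  let φ := πc F ≫ ι'
  let R : im (St x) (mappingCocone φ) ⟶ im (St x) F := cfst (St x) φ ≫ retc x F
  let E₁ := ((csnd (St x) φ).comp (Cochain.ofHom (r ≫ s)) (add_zero (-1))).comp (cinl (St x) φ) (add_zero (-1))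
  let E₂ := ((csnd (St x) φ).comp H (show (-1 : ℤ) + -1 = -2 by omega)).comp (cinr (St x) φ) (show (-2 : ℤ) + 1 = -1 by omega)
  have hη : ∀ n, (imMap (St x) (stepι ι')).f n = (imMap (St x) (ηc F)).f n ≫ (cinl (St x) φ).v n n (add_zero n) := fun n => by
    change (St x).map ((stepι ι').f n) = (St x).map ((ηc F).f n) ≫ (St x).map _
    rw [← Functor.map_comp]
    congr 1
    rw [← cancel_mono (𝟙 ((mappingCocone φ).X n)), ← mappingCocone.id_X φ n (n - 1) (by omega)]
    simp [stepι, φ]
  have hsnd : ∀ n q (h : n + -1 = q), (imMap (St x) (stepι ι')).f n ≫ (csnd (St x) φ).v n q h = 0 := fun n q h => by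
    rw [hη, Category.assoc, cinl_snd, comp_zero]
  refine ⟨R, -(E₁ + E₂), ?_, fun n _ => ?_, fun n hn => ?_⟩
  · have h0 : (Cochain.ofHom (imMap (St x) (stepι ι'))).comp (csnd (St x) φ) (zero_add (-1)) = 0 :=
      Cochain.ext _ _ fun n q hq => by
        rw [Cochain.zero_cochain_comp_v, Cochain.ofHom_v, Cochain.zero_v]
        exact hsnd n q hq
    simp only [E₁, E₂, Cochain.comp_neg, Cochain.comp_add, ← Cochain.comp_assoc_of_first_is_zero_cochain, h0,
      Cochain.zero_comp, add_zero, neg_zero]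
  · change (imMap (St x) (stepι ι')).f n ≫ (cfst (St x) φ).f n ≫ (retc x F).f n = _
    rw [hη, Category.assoc, cinl_fst_assoc]
    exact HomologicalComplex.congr_hom (η_retc x F) n
  · change (δ (-1) 0 (-(E₁ + E₂))).v n n _ = 𝟙 _ - ((cfst (St x) φ).f n ≫ (retc x F).f n) ≫ (imMap (St x) (stepι ι')).f n
    rw [δ_neg, δ_add]
    simp only [E₁, E₂]
    rw [δ_comp_zero_cochain _ _ 0 (by omega),
      δ_comp _ _ (show (-2 : ℤ) + 1 = -1 by omega) (-1) 2 0 (by omega) (by omega) (by omega), δ_cinr,
      δ_comp_zero_cochain _ _ 0 (by omega),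
      δ_comp _ _ (show (-1 : ℤ) + -1 = -2 by omega) 0 0 (-1) (by omega) (by omega) (by omega), δ_csnd, δ_cinl,
      δ_ofHom]
    have hφH : (imMap (St x) φ).f n ≫ H.v n (n - 1) (by omega) = 0 := by
      have h0 := Cochain.congr_v hH n (n - 1) (by omega)
      simp only [Cochain.zero_cochain_comp_v, Cochain.ofHom_v, Cochain.zero_v] at h0
      change (imMap (St x) (πc F ≫ ι')).f n ≫ _ = 0
      rw [show (imMap (St x) (πc F ≫ ι')).f n = (imMap (St x) (πc F)).f n ≫ (imMap (St x) ι').f n by simp, Category.assoc]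
      exact (congrArg ((imMap (St x) (πc F)).f n ≫ ·) h0).trans comp_zero
    have hrs : (imMap (St x) φ).f n ≫ r.f n ≫ s.f n = 𝟙 _ - (retc x F).f n ≫ (imMap (St x) (ηc F)).f n := by
      change (imMap (St x) (πc F ≫ ι')).f n ≫ _ = _
      rw [show (imMap (St x) (πc F ≫ ι')).f n = (imMap (St x) (πc F)).f n ≫ (imMap (St x) ι').f n by simp, Category.assoc,
        reassoc_of% hr n (by omega)]
      exact HomologicalComplex.congr_hom hs n
    have hsφ : s.f (n - 1) ≫ (imMap (St x) φ).f (n - 1) = (imMap (St x) ι').f (n - 1) := by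
      change s.f (n - 1) ≫ (imMap (St x) (πc F ≫ ι')).f (n - 1) = _
      rw [show (imMap (St x) (πc F ≫ ι')).f (n - 1) = (imMap (St x) (πc F)).f (n - 1) ≫ (imMap (St x) ι').f (n - 1) by simp,
        ← Category.assoc, show s.f (n - 1) ≫ (imMap (St x) (πc F)).f (n - 1) = 𝟙 _ from
          HomologicalComplex.congr_hom hs' (n - 1), Category.id_comp]
    simp only [Cochain.comp_zero, zero_add, Cochain.comp_assoc_of_second_is_zero_cochain, Int.negOnePow_one,
      Int.negOnePow_neg, Units.neg_smul, one_smul, Cochain.neg_v, Cochain.add_v, Cochain.neg_comp, Cochain.comp_neg,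
      Cochain.comp_v _ _ (show (-1 : ℤ) + 1 = 0 by omega) n (n - 1) n (by omega) (by omega),
      Cochain.comp_v _ _ (show (-1 : ℤ) + 0 = -1 by omega) n (n - 1) (n - 1) (by omega) (by omega),
      Cochain.comp_v _ _ (show (0 : ℤ) + -1 = -1 by omega) n n (n - 1) (by omega) (by omega),
      Cochain.comp_zero_cochain_v, Cochain.zero_cochain_comp_v, Cochain.ofHom_v, HomologicalComplex.comp_f,
      Category.assoc]
    rw [hd (n - 1) (by omega), reassoc_of% hrs, reassoc_of% hsφ, hη]
    simp only [Preadditive.sub_comp, Preadditive.comp_sub, Preadditive.add_comp, Preadditive.comp_add,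
      Category.id_comp, Category.assoc, Preadditive.neg_comp, Preadditive.comp_neg, reassoc_of% hφH, zero_comp,
      comp_zero, neg_zero, add_zero]
    rw [← c_id (St x) φ n (n - 1) (by omega)]
    abel

theorem goodStalk_stage : ∀ (k : ℕ) (F : CochainComplex (CohTop.Ab X) ℤ) (a : ℤ), (∀ i, i < a → IsZero (F.X i)) →
    GoodStalk x (stage k F).2 (a + k)
  | 0, F, a, hF => by
    have hU : ∀ n, IsZero ((im (St x) (stage 0 F).1).X n) := fun n =>
      (St x).map_isZero ((HomologicalComplex.eval _ (ComplexShape.up ℤ) n).map_isZero (isZero_zero _))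
    exact ⟨0, 0, Cochain.comp_zero _ _, fun n hn => ((St x).map_isZero (hF n (by simpa using hn))).eq_of_src _ _,
      fun n _ => (hU n).eq_of_src _ _⟩
  | k + 1, F, a, hF => by
    have h := goodStalk_step x (stage k (Qc F)).2 _ (goodStalk_stage k (Qc F) a fun i hi => isZero_Qc_X i (hF i hi))
    rwa [show a + (k : ℤ) + 1 = a + ((k + 1 : ℕ) : ℤ) by push_cast; ring] at h

/-! ### the limit -/

variable (F : CochainComplex (CohTop.Ab X) ℤ) (a : ℤ)

/-- the tower -/
abbrev tower : ℕᵒᵖ ⥤ CochainComplex (CohTop.Ab X) ℤ :=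
  Functor.ofOpSequence (X := fun k => (stage k F).1) fun k => (trans k F).1

/-- the resolution -/
abbrev Gres : CochainComplex (CohTop.Ab X) ℤ := limit (tower F)

/-- the augmentation -/
def aug : F ⟶ Gres F :=
  limit.lift _
    { pt := F
      π := NatTrans.ofOpSequence (F := (Functor.const ℕᵒᵖ).obj F) (G := tower F) (fun k => (stage k F).2) fun k => by
        simp only [Functor.const_obj_map, tower, Functor.ofOpSequence_map_homOfLE_succ]
        exact (Category.id_comp _).trans (trans k F).2.symm }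

lemma aug_π (k : ℕ) : aug F ≫ limit.π (tower F) (op k) = (stage k F).2 := limit.lift_π _ _

lemma isIso_π {n : ℤ} (hF : ∀ i, i < a → IsZero (F.X i)) (k : ℕ) (hk : n < a + k) :
    IsIso ((limit.π (tower F) (op k)).f n) := by
  have hconst : (tower F ⋙ HomologicalComplex.eval _ (ComplexShape.up ℤ) n).IsEventuallyConstantTo (op k) := by
    intro l φ
    obtain ⟨l⟩ := l
    obtain ⟨d, rfl⟩ := Nat.exists_eq_add_of_le (leOfHom φ.unop)
    induction d with
    | zero =>
      rw [Subsingleton.elim φ (𝟙 (op k))]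
      exact inferInstanceAs (IsIso ((tower F ⋙ HomologicalComplex.eval _ (ComplexShape.up ℤ) n).map (Iso.refl (op k)).hom))
    | succ d ih =>
      rw [Subsingleton.elim φ ((homOfLE (Nat.le_add_right (k + d) 1)).op ≫ (homOfLE (Nat.le_add_right k d)).op),
        Functor.map_comp]
      haveI := ih (homOfLE (Nat.le_add_right k d)).op
      haveI : IsIso ((tower F ⋙ HomologicalComplex.eval _ (ComplexShape.up ℤ) n).map
          (homOfLE (Nat.le_add_right (k + d) 1)).op) := by
        simp only [tower, Functor.comp_map, Functor.ofOpSequence_map_homOfLE_succ]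
        exact isIso_trans (k + d) F a n hF (by push_cast; omega)
      infer_instance
  exact hconst.isIso_π_of_isLimit
    (isLimitOfPreserves (HomologicalComplex.eval _ (ComplexShape.up ℤ) n) (limit.isLimit (tower F)))

/-- **Godement resolution of a bounded below complex** -/
theorem exists_resolution (hF : F.IsStrictlyGE a) :
    ∃ (G : CochainComplex (CohTop.Ab X) ℤ) (φ : F ⟶ G), G.IsStrictlyGE a ∧ QuasiIso φ ∧
      (∀ n : ℤ, TopCat.Sheaf.IsFlasque (G.X n)) ∧
      ∀ x : X, ∃ e : HomotopyEquiv ((CohCx.stalkCx x).obj F) ((CohCx.stalkCx x).obj G), e.hom = (CohCx.stalkCx x).map φ := by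
  have hz : ∀ i, i < a → IsZero (F.X i) := fun i hi => F.isZero_of_isStrictlyGE a i hi
  let kk : ℤ → ℕ := fun n => (n - a + 3).toNat
  have hkk : ∀ n, n + 2 < a + kk n := fun n => by simp only [kk]; omega
  have hcontr : ∀ x : X, ∀ n, ContrAt (im (St x) (mappingCocone (aug F))) n := by
    intro x n
    let k := kk n
    have hk := hkk n
    let π := limit.π (tower F) (op k)
    let m : mappingCocone (aug F) ⟶ mappingCocone (stage k F).2 :=
      cmap (aug F) (stage k F).2 π (aug_π F k)
    have hm : ∀ i, i ≤ n + 1 → IsIso (m.f i) := fun i hi => by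
      haveI : IsIso (π.f (i - 1)) := isIso_π F a hz k (by omega)
      exact isIso_cmap (aug F) (stage k F).2 π (aug_π F k) i
    haveI h₀ := hm (n - 1) (by omega)
    haveI h₁ := hm n (by omega)
    haveI h₂ := hm (n + 1) le_rfl
    obtain ⟨r, H, hH, hr, hd⟩ := goodStalk_stage x k F a hz
    exact contrAt_of_iso (imMap (St x) m) n (inferInstanceAs (IsIso ((St x).map (m.f (n - 1)))))
      (inferInstanceAs (IsIso ((St x).map (m.f n)))) (inferInstanceAs (IsIso ((St x).map (m.f (n + 1)))))
      (contrAt_of_retraction (St x) (stage k F).2 r H hH n (hr n (by omega)) (hd (n - 1) (by omega)))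
  refine ⟨Gres F, aug F, ?_, ?_, fun n => ?_, fun x => ?_⟩
  · refine (CochainComplex.isStrictlyGE_iff _ _).2 fun n hn => ?_
    haveI := isIso_π F a hz (kk n) (by have := hkk n; omega : n < a + (kk n : ℤ))
    exact (isZero_stage (kk n) F a n hz hn).of_iso (asIso ((limit.π (tower F) (op (kk n))).f n))
  · have hac : (mappingCocone (aug F)).Acyclic := fun n => by
      rw [HomologicalComplex.exactAt_iff]
      refine (TopCat.Sheaf.exact_iff_stalkFunctor_map_exact (C := AddCommGrpCat.{u}) (X := X) _).2 fun x => ?_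
      change HomologicalComplex.ExactAt (im (St x) (mappingCocone (aug F))) n
      rw [HomologicalComplex.exactAt_iff_isZero_homology, IsZero.iff_id_eq_zero]
      obtain ⟨E, hE⟩ := exists_contraction _ (hcontr x)
      have h0 : Homotopy (𝟙 (im (St x) (mappingCocone (aug F)))) 0 :=
        (Cochain.equivHomotopy _ _).symm ⟨E, by rw [hE]; simp⟩
      rw [← HomologicalComplex.homologyMap_id, h0.homologyMap_eq, HomologicalComplex.homologyMap_zero]
    rw [← DerivedCategory.isIso_Q_map_iff_quasiIso]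
    have ht := DerivedCategory.mappingCocone_triangle_distinguished (aug F)
    refine (Pretriangulated.Triangle.isZero₁_iff_isIso₂ _ ht).1 ?_
    haveI hle : DerivedCategory.IsLE (DerivedCategory.Q.obj (mappingCocone (aug F))) (-1) :=
      (DerivedCategory.isLE_iff _ _).2 fun q _ => ((HomologicalComplex.exactAt_iff_isZero_homology _ _).1 (hac q)).of_iso
        ((DerivedCategory.homologyFunctorFactors _ q).app _)
    haveI hge : DerivedCategory.IsGE (DerivedCategory.Q.obj (mappingCocone (aug F))) 0 :=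
      (DerivedCategory.isGE_iff _ _).2 fun q _ => ((HomologicalComplex.exactAt_iff_isZero_homology _ _).1 (hac q)).of_iso
        ((DerivedCategory.homologyFunctorFactors _ q).app _)
    exact DerivedCategory.TStructure.t.isZero (DerivedCategory.Q.obj (mappingCocone (aug F))) (-1) 0 (by omega)
  · haveI := isIso_π F a hz (kk n) (by have := hkk n; omega : n < a + (kk n : ℤ))
    let e := asIso ((limit.π (tower F) (op (kk n))).f n)
    exact isFlasque_of_iso e.symm (isFlasque_stage (kk n) F n)
  · obtain ⟨E, hE⟩ := exists_contraction _ (hcontr x)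
    exact exists_homotopyEquiv (St x) (aug F) E hE

end Groth.Agent.TopGodement
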