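import Groth.Prelude.Def_CohCx
import Groth.Agent.CohTopX.Basic
import Mathlib.Topology.Sheaves.Abelian

/-!
The functorial first Godement step with natural retractions on stalks.
-/

set_option autoImplicit false
set_option linter.style.haveILetI false
set_option backward.isDefEq.respectTransparency false
set_option backward.isDefEq.respectTransparency.types false

universe u

open CategoryTheory CategoryTheory.Limits Opposite TopologicalSpace

namespace Groth.Agent.TopGodement

variable {X : TopCat.{u}}

/-- the stalk functor on abelian sheaves -/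
noncomputable abbrev St (x : X) : CohTop.Ab X ⥤ AddCommGrpCat.{u} :=
  sheafToPresheaf (Opens.grothendieckTopology X) AddCommGrpCat.{u} ⋙
    TopCat.Presheaf.stalkFunctor AddCommGrpCat.{u} x

instance preservesFiniteLimits_st (x : X) : PreservesFiniteLimits (St x) :=
  inferInstanceAs (PreservesFiniteLimits
    (TopCat.Sheaf.forget AddCommGrpCat.{u} X ⋙ TopCat.Presheaf.stalkFunctor AddCommGrpCat.{u} x))

instance preservesFiniteColimits_st (x : X) : PreservesFiniteColimits (St x) :=
  inferInstanceAs (PreservesFiniteColimits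
    (TopCat.Sheaf.forget AddCommGrpCat.{u} X ⋙ TopCat.Presheaf.stalkFunctor AddCommGrpCat.{u} x))

instance additive_st (x : X) : (St x).Additive :=
  inferInstanceAs ((TopCat.Sheaf.forget AddCommGrpCat.{u} X ⋙ TopCat.Presheaf.stalkFunctor AddCommGrpCat.{u} x).Additive)

variable (X)

/-- the discrete space -/
noncomputable abbrev Xd : TopCat.{u} := (forget TopCat.{u} ⋙ TopCat.discrete).obj X

/-- the identity from the discrete space -/
noncomputable abbrev toX : Xd X ⟶ X := TopCat.adj₁.counit.app X

instance discreteTopology_Xd : DiscreteTopology ↑(Xd X) := ⟨rfl⟩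

variable {X}

/-- the presheaf map on products of stalks -/
noncomputable def prodMap {F F' : CohTop.Ab X} (φ : F ⟶ F') :
    CohTopX.stalkProd (toX X) F ⟶ CohTopX.stalkProd (toX X) F' where
  app W := AddCommGrpCat.ofHom (AddMonoidHom.mk' (fun a y => (St (toX X y.1)).map φ (a y))
    fun a b => funext fun y => map_add _ (a y) (b y))
  naturality _ _ _ := rfl

/-- products of stalks as sheaves on the discrete space -/
noncomputable def prodF : CohTop.Ab X ⥤ CohTop.Ab (Xd X) where
  obj F := ⟨CohTopX.stalkProd (toX X) F, CohTopX.stalkProd_isSheaf (toX X) F⟩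
  map φ := ⟨prodMap φ⟩
  map_id F := by
    refine CategoryTheory.Sheaf.hom_ext (NatTrans.ext (funext fun W => AddCommGrpCat.ext fun a => funext fun y => ?_))
    exact ConcreteCategory.congr_hom ((St (toX X y.1)).map_id F) (a y)
  map_comp φ ψ := by
    refine CategoryTheory.Sheaf.hom_ext (NatTrans.ext (funext fun W => AddCommGrpCat.ext fun a => funext fun y => ?_))
    exact ConcreteCategory.congr_hom ((St (toX X y.1)).map_comp φ ψ) (a y)

instance additive_prodF : (prodF (X := X)).Additive where
  map_add {F F' φ ψ} := by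
    refine CategoryTheory.Sheaf.hom_ext (NatTrans.ext (funext fun W => AddCommGrpCat.ext fun a => funext fun y => ?_))
    exact ConcreteCategory.congr_hom ((St (toX X y.1)).map_add (f := φ) (g := ψ)) (a y)

/-- the Godement functor -/
noncomputable def Gd : CohTop.Ab X ⥤ CohTop.Ab X := prodF ⋙ CohTop.push (toX X)

instance additive_push_toX : (CohTop.push (toX X)).Additive where
  map_add := rfl

instance additive_Gd : (Gd (X := X)).Additive := inferInstanceAs ((prodF ⋙ CohTop.push (toX X)).Additive)

theorem isFlasque_Gd (F : CohTop.Ab X) : TopCat.Sheaf.IsFlasque (Gd.obj F) := by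
  haveI := CohTopX.isFlasque_of_discrete (prodF.obj F)
  exact inferInstanceAs (TopCat.Sheaf.IsFlasque ((TopCat.Sheaf.pushforward AddCommGrpCat.{u} (toX X)).obj (prodF.obj F)))

/-- the unit -/
noncomputable def η : 𝟭 (CohTop.Ab X) ⟶ Gd where
  app F := CohTopX.toStalkProd (toX X) F
  naturality F F' φ := by
    refine CategoryTheory.Sheaf.hom_ext (NatTrans.ext (funext fun W => AddCommGrpCat.ext fun s => funext fun y => ?_))
    exact (TopCat.Presheaf.stalkFunctor_map_germ_apply (C := AddCommGrpCat.{u}) W.unop (toX X y.1) y.2 φ.hom s).symm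

/-- evaluation of germs -/
noncomputable def evalSt (x : X) (F : CohTop.Ab X) : (St x).obj (Gd.obj F) ⟶ (St x).obj F :=
  colimit.desc ((OpenNhds.inclusion x).op ⋙ (Gd.obj F).obj)
    { pt := (St x).obj F
      ι :=
        { app := fun V => AddCommGrpCat.ofHom (AddMonoidHom.mk'
            (fun a : ∀ y : (Opens.map (toX X)).obj V.unop.1, CohTop.stalk F (toX X y.1) => a ⟨x, V.unop.2⟩)
            fun _ _ => rfl)
          naturality := fun _ _ _ => rfl } }

theorem germ_evalSt (x : X) (F : CohTop.Ab X) (U : Opens X) (hx : x ∈ U) (a : (Gd.obj F).obj.obj (op U)) :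
    evalSt x F (TopCat.Presheaf.germ (C := AddCommGrpCat.{u}) (X := X) (Gd.obj F).obj U x hx a) = a ⟨x, hx⟩ := by
  change (colimit.ι ((OpenNhds.inclusion x).op ⋙ (Gd.obj F).obj) (op (⟨U, hx⟩ : OpenNhds x)) ≫ evalSt x F) a = _
  rw [evalSt, colimit.ι_desc]
  rfl

/-- the retraction -/
noncomputable def ret (x : X) : Gd ⋙ St x ⟶ St x where
  app F := evalSt x F
  naturality F F' φ := by
    refine TopCat.Presheaf.stalk_hom_ext _ fun U hx => AddCommGrpCat.ext fun a => ?_
    change evalSt x F' ((St x).map (Gd.map φ) (TopCat.Presheaf.germ (C := AddCommGrpCat.{u}) (X := X) (Gd.obj F).obj U x hx a)) =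
      (St x).map φ (evalSt x F (TopCat.Presheaf.germ (C := AddCommGrpCat.{u}) (X := X) (Gd.obj F).obj U x hx a))
    rw [germ_evalSt]
    refine (congrArg (evalSt x F') (TopCat.Presheaf.stalkFunctor_map_germ_apply (C := AddCommGrpCat.{u}) U x hx
      (Gd.map φ).hom a)).trans ?_
    exact germ_evalSt x F' U hx _

@[reassoc]
theorem η_ret (x : X) (F : CohTop.Ab X) : (St x).map (η.app F) ≫ (ret x).app F = 𝟙 _ := by
  refine TopCat.Presheaf.stalk_hom_ext _ fun U hx => AddCommGrpCat.ext fun s => ?_
  change evalSt x F ((St x).map (η.app F) (TopCat.Presheaf.germ (C := AddCommGrpCat.{u}) (X := X) F.obj U x hx s)) =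
    TopCat.Presheaf.germ (C := AddCommGrpCat.{u}) (X := X) F.obj U x hx s
  refine (congrArg (evalSt x F) (TopCat.Presheaf.stalkFunctor_map_germ_apply (C := AddCommGrpCat.{u}) U x hx
    (η.app F).hom s)).trans ?_
  exact germ_evalSt x F U hx _

end Groth.Agent.TopGodement
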